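import Mathlib
import Groth.Prelude.Def_BlowUp2
import Groth.Agent.S1570
import Groth.Agent.Lib.Helper4.EffCartier
import Groth.Agent.Lib.Helper7.FormalCompl
import Groth.Agent.Lib.Helper7.FinDeg.Chart
import Groth.Agent.Lib.Helper7.GalOrb3

set_option linter.style.haveILetI false
set_option linter.unusedVariables false
set_option linter.unusedSectionVars false
set_option autoImplicit false
set_option backward.isDefEq.respectTransparency.types false
set_option synthInstance.maxHeartbeats 400000
set_option maxHeartbeats 1600000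

namespace Groth.Agent.Helper7.EffCartDesc

open CategoryTheory CategoryTheory.Limits AlgebraicGeometry TopologicalSpace Opposite IsLocalRing

universe u

/-! helper7: effective Cartier ideals descend along flat surjective morphisms to locally Noetherian schemes (field extension base change) -/

/-- descent of principal ideals generated by a nonzerodivisor along a flat local homomorphism -/
theorem principal_descent {R S : Type u} [CommRing R] [CommRing S] [IsLocalRing R] [IsLocalRing S]
    (φ : R →+* S) (hφ : φ.Flat) [hloc : IsLocalHom φ] (I : Ideal R) (t : S)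
    (ht : t ∈ nonZeroDivisors S) (hI : I.map φ = Ideal.span {t}) :
    ∃ g ∈ nonZeroDivisors R, I = Ideal.span {g} := by
  algebraize [φ]
  haveI : IsLocalHom (algebraMap R S) := hloc
  haveI : Module.FaithfullyFlat R S := Module.FaithfullyFlat.of_flat_of_isLocalHom
  have ht_mem : t ∈ I.map φ := by
    rw [hI]
    exact Ideal.mem_span_singleton_self t
  have hmul : ∀ a ∈ I, ∃ c, φ a = c * t := fun a ha => by
    have h1 : φ a ∈ Ideal.span {t} := by
      rw [← hI]
      exact Ideal.mem_map_of_mem φ ha
    obtain ⟨c, hc⟩ := Ideal.mem_span_singleton'.mp h1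
    exact ⟨c, hc.symm⟩
  have hex : ∃ a ∈ I, ∃ c, IsUnit c ∧ φ a = c * t := by
    by_contra hcon
    have hcon' : ∀ a ∈ I, ∀ c, φ a = c * t → ¬ IsUnit c := fun a ha c hc hu =>
      hcon ⟨a, ha, c, hu, hc⟩
    have hle : I.map φ ≤ maximalIdeal S * Ideal.span {t} := by
      rw [Ideal.map_le_iff_le_comap]
      intro a ha
      obtain ⟨c, hc⟩ := hmul a ha
      rw [Ideal.mem_comap, hc]
      exact Ideal.mul_mem_mul ((mem_maximalIdeal c).mpr (hcon' a ha c hc))
        (Ideal.mem_span_singleton_self t)
    have h1 : t ∈ maximalIdeal S * Ideal.span {t} := hle ht_mem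
    rw [Ideal.mem_mul_span_singleton] at h1
    obtain ⟨z, hz, hzt⟩ := h1
    have h2 : (1 - z) * t = 0 := by rw [sub_mul, one_mul, hzt, sub_self]
    have h3 : 1 - z = 0 := (mem_nonZeroDivisors_iff_right.mp ht) _ h2
    have h4 : z = 1 := (sub_eq_zero.mp h3).symm
    rw [h4] at hz
    exact (mem_maximalIdeal (1 : S)).mp hz isUnit_one
  obtain ⟨g, hgI, c, hc, hgc⟩ := hex
  refine ⟨g, ?_, ?_⟩
  · rw [mem_nonZeroDivisors_iff_right]
    intro r hr
    have h1 : (φ r * c) * t = 0 := by
      rw [mul_assoc, ← hgc, ← map_mul, hr, map_zero]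
    have h4 : φ r * c = 0 := (mem_nonZeroDivisors_iff_right.mp ht) _ h1
    have h5 : φ r = 0 := by
      obtain ⟨u, rfl⟩ := hc
      have := congrArg (· * (↑u⁻¹ : S)) h4
      simpa [mul_assoc] using this
    have hinj : Function.Injective (algebraMap R S) := FaithfulSMul.algebraMap_injective R S
    exact hinj (by rw [map_zero]; exact h5)
  · apply Ideal.map_injective_of_faithfullyFlat (A := R) (B := S)
    show I.map φ = (Ideal.span {g}).map φ
    rw [hI, Ideal.map_span, Set.image_singleton, hgc]
    exact (Ideal.span_singleton_mul_left_unit hc t).symm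

/-- germs of nonzerodivisors on affine opens are nonzerodivisors -/
theorem germ_nzd {X : Scheme.{u}} {W : X.Opens} (hW : IsAffineOpen W) (x : X) (hx : x ∈ W)
    (t : Γ(X, W)) (ht : t ∈ nonZeroDivisors Γ(X, W)) :
    (X.presheaf.germ W x hx).hom t ∈ nonZeroDivisors (X.presheaf.stalk x) := by
  letI : Algebra Γ(X, W) (X.presheaf.stalk x) := (X.presheaf.germ W x hx).hom.toAlgebra
  haveI : IsLocalization.AtPrime (X.presheaf.stalk x) (hW.primeIdealOf ⟨x, hx⟩).asIdeal :=
    hW.isLocalization_stalk ⟨x, hx⟩
  exact IsLocalization.map_nonZeroDivisors_le (hW.primeIdealOf ⟨x, hx⟩).asIdeal.primeCompl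
    (X.presheaf.stalk x) ⟨t, ht, rfl⟩

/-- effective Cartier ideals descend along a flat surjective morphism to a locally Noetherian
scheme -/
theorem descent {X' X : Scheme.{u}} (pr : X' ⟶ X) [Flat pr] [Surjective pr]
    [IsLocallyNoetherian X] (𝓘 : X.IdealSheafData)
    (hK : BlowUp.IsEffCartierIdeal (𝓘.comap pr)) : BlowUp.IsEffCartierIdeal 𝓘 := by
  apply Groth.Agent.S1570.result X 𝓘
  intro x _ U hxU
  obtain ⟨x', rfl⟩ := pr.surjective x
  obtain ⟨W, hx'W, hWU, t, ht, hI⟩ :=
    Groth.Agent.Helper4.EffCartier.shrink hK x' (pr ⁻¹ᵁ U.1) hxU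
  have hcomap := Groth.Agent.Helper7.FormalCompl.ideal_comap_eq_map pr 𝓘 U.1 U.2 W.1 W.2 hWU
  have hcomp : (X'.presheaf.germ W.1 x' hx'W).hom.comp (pr.appLE U.1 W.1 hWU).hom =
      (pr.stalkMap x').hom.comp (X.presheaf.germ U.1 (pr x') hxU).hom :=
    RingHom.ext fun a => Groth.Agent.Helper7.FinDeg.germ_appLE pr hWU x' hx'W a
  have hImap : ((𝓘.ideal U).map (X.presheaf.germ U.1 (pr x') hxU).hom).map (pr.stalkMap x').hom =
      Ideal.span {(X'.presheaf.germ W.1 x' hx'W).hom t} := by
    rw [Ideal.map_map, ← hcomp, ← Ideal.map_map]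
    have h2 : Ideal.map (pr.appLE U.1 W.1 hWU).hom (𝓘.ideal U) = Ideal.span {t} := by
      rw [← hI]
      exact hcomap.symm
    rw [h2, Ideal.map_span, Set.image_singleton]
  exact principal_descent (pr.stalkMap x').hom (Flat.stalkMap pr x') _ _
    (germ_nzd W.2 x' hx'W t ht) hImap

/-- effective Cartier ideals descend along base change to a field extension -/
theorem main {k : Type u} [Field k] {K : Type u} [Field K] [Algebra k K] {X : Scheme.{u}}
    (f : X ⟶ Spec (CommRingCat.of k)) [LocallyOfFiniteType f] (𝓘 : X.IdealSheafData)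
    (hK : BlowUp.IsEffCartierIdeal
      (𝓘.comap (pullback.fst f (Spec.map (CommRingCat.ofHom (algebraMap k K)))))) :
    BlowUp.IsEffCartierIdeal 𝓘 := by
  haveI : IsLocallyNoetherian X := LocallyOfFiniteType.isLocallyNoetherian f
  haveI : Surjective (pullback.fst f (Spec.map (CommRingCat.ofHom (algebraMap k K)))) :=
    MorphismProperty.pullback_fst (P := @Surjective) _ _
      Groth.Agent.Helper7.GalOrb.surjective_SpecMap
  have hfl : Flat (Spec.map (CommRingCat.ofHom (algebraMap k K))) := by
    rw [Flat.SpecMap_iff]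
    exact RingHom.flat_algebraMap_iff.mpr inferInstance
  haveI : Flat (pullback.fst f (Spec.map (CommRingCat.ofHom (algebraMap k K)))) :=
    MorphismProperty.pullback_fst (P := @Flat) _ _ hfl
  exact descent _ 𝓘 hK

end Groth.Agent.Helper7.EffCartDesc
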